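/-
Equality in the spectral bound of a strongly regular commuting graph for a vector constant on each
member of a family of sets.
-/
import Cfsg.Agent.H65.Fischer.Quad

set_option autoImplicit false

namespace H98.Fischer

open Cfsg H99 H65.Fischer Finset Matrix

variable {G : Type*} [Group G] [Finite G] {E : Set G}

/-- If a combination of indicator functions reaches the spectral bound, every row is known. -/
theorem row_eq {n k l m : ℕ} (h : IsSRG E n k l m) (hn : 0 < n) {r s : ℝ}
    (hsum : r + s = (l : ℝ) - m) (hprod : r * s = (m : ℝ) - k)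
    (S : Fin 3 → Set G) (w : Fin 3 → ℝ) (e : Fin 3 → Fin 3 → ℕ) (hS : ∀ i, S i ⊆ E)
    (hdisj : ∀ i j, i ≠ j → Disjoint (S i) (S j))
    (he : ∀ i j, ∀ x ∈ S i, (S j ∩ perp E x).ncard = e i j)
    (h0 : (∑ i, ∑ j, w i * w j * ((S i).ncard : ℝ) * (e i j : ℝ))
      - r * (∑ i, w i ^ 2 * ((S i).ncard : ℝ))
      - ((k : ℝ) - r) / n * (∑ i, w i * ((S i).ncard : ℝ)) ^ 2 = 0)
    {z : G} (hz : z ∈ E) (hout : ∀ i, z ∉ S i) :
    (∑ i, w i * ((S i ∩ perp E z).ncard : ℝ)) =
      ((k : ℝ) - r) / n * (∑ i, w i * ((S i).ncard : ℝ)) := by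
  classical
  letI := Fintype.ofFinite E
  set Γ := graphOn E with hΓ
  have hsrg := h.isSRGWith
  have hspec := spec_of_srg Γ hsrg hn hsum hprod
  let ind : Fin 3 → E → ℝ := fun i x => if (x : G) ∈ S i then 1 else 0
  set u : E → ℝ := ∑ i, w i • ind i with hu
  have hind : ∀ i, ∑ x, ind i x = ((S i).ncard : ℝ) := fun i => by
    simp only [ind]
    rw [Finset.sum_boole]
    exact card_filter_val (S i) (hS i)
  have hAi : ∀ i (x : E), (Γ.adjMatrix ℝ *ᵥ ind i) x = ((S i ∩ perp E (x : G)).ncard : ℝ) := by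
    intro i x
    simp only [Matrix.mulVec, dotProduct, SimpleGraph.adjMatrix_apply, ind, ite_zero_mul_ite_zero,
      mul_one]
    rw [Finset.sum_boole]
    norm_cast
    rw [← Finset.card_image_of_injective _ Subtype.val_injective, ← Set.ncard_coe_finset]
    congr 1
    ext y
    simp only [coe_image, Set.mem_image, coe_filter, mem_univ, true_and, Set.mem_ofPred_eq]
    constructor
    · rintro ⟨v, ⟨hadj, hv⟩, rfl⟩
      exact ⟨hv, v.2, hadj.1, hadj.2⟩
    · rintro ⟨hy, hy'⟩
      exact ⟨⟨y, hy'.1⟩, ⟨⟨hy'.2.1, hy'.2.2⟩, hy⟩, rfl⟩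
  have hdot : ∀ i j, ind i ⬝ᵥ (Γ.adjMatrix ℝ *ᵥ ind j) = ((S i).ncard : ℝ) * (e i j : ℝ) := by
    intro i j
    rw [dotProduct, ← hind i, Finset.sum_mul]
    refine Finset.sum_congr rfl fun x _ => ?_
    rw [hAi]
    simp only [ind]
    split_ifs with hx
    · rw [he i j _ hx]
    · simp
  have hii : ∀ i j, ind i ⬝ᵥ ind j = if i = j then ((S i).ncard : ℝ) else 0 := by
    intro i j
    rw [dotProduct]
    split_ifs with hij
    · subst hij
      rw [← hind i]
      refine Finset.sum_congr rfl fun x _ => ?_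
      simp only [ind]
      split_ifs <;> simp
    · refine Finset.sum_eq_zero fun x _ => ?_
      simp only [ind]
      split_ifs with h1 h2 <;> first | exact absurd h2 ((hdisj i j hij).notMem_of_mem_left h1) | simp
  have hAu : Γ.adjMatrix ℝ *ᵥ u = ∑ j, w j • (Γ.adjMatrix ℝ *ᵥ ind j) := by
    simp only [hu, Matrix.mulVec_sum, Matrix.mulVec_smul]
  have huAu : u ⬝ᵥ (Γ.adjMatrix ℝ *ᵥ u) =
      ∑ i, ∑ j, w i * w j * ((S i).ncard : ℝ) * (e i j : ℝ) := by
    rw [hAu, hu]
    simp only [sum_dotProduct, dotProduct_sum, smul_dotProduct, dotProduct_smul, smul_eq_mul, hdot,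
      Finset.mul_sum]
    rw [Finset.sum_comm]
    exact Finset.sum_congr rfl fun i _ => Finset.sum_congr rfl fun j _ => by ring
  have huu : u ⬝ᵥ u = ∑ i, w i ^ 2 * ((S i).ncard : ℝ) := by
    rw [hu]
    simp only [sum_dotProduct, dotProduct_sum, smul_dotProduct, dotProduct_smul, smul_eq_mul, hii,
      mul_ite, mul_zero, Finset.sum_ite_eq', Finset.mem_univ, if_true]
    exact Finset.sum_congr rfl fun i _ => by ring
  have husum : ∑ x, u x = ∑ i, w i * ((S i).ncard : ℝ) := by
    simp only [hu, Finset.sum_apply, Pi.smul_apply, smul_eq_mul]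
    rw [Finset.sum_comm]
    simp only [← Finset.mul_sum, hind]
  have hcard : (Fintype.card E : ℝ) = n := by exact_mod_cast hsrg.card
  have := hspec.bound_eq u (by rw [huAu, huu, husum, hcard]; exact h0) ⟨z, hz⟩
  rw [husum, hcard] at this
  have huz : u ⟨z, hz⟩ = 0 := by
    simp only [hu, Finset.sum_apply, Pi.smul_apply, smul_eq_mul, ind]
    exact Finset.sum_eq_zero fun i _ => by simp [hout i]
  rw [huz, mul_zero, zero_add] at this
  rw [← this, hAu]
  simp only [Finset.sum_apply, Pi.smul_apply, smul_eq_mul, hAi]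

end H98.Fischer
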