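/-
The types M(23) and M(24) are carried along isomorphisms.
-/
import Cfsg.Agent.H72.Conn.M23

set_option autoImplicit false

namespace H98.Fischer

open Cfsg

theorem center_map {A B : Type*} [Group A] [Group B] (e : A ≃* B) :
    (Subgroup.center A).map e.toMonoidHom = Subgroup.center B := by
  ext y
  simp only [Subgroup.mem_map, Subgroup.mem_center_iff, MulEquiv.coe_toMonoidHom]
  constructor
  · rintro ⟨a, ha, rfl⟩ g
    obtain ⟨g, rfl⟩ := e.surjective g
    rw [← map_mul, ha g, map_mul]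
  · intro hy
    refine ⟨e.symm y, fun g => e.injective ?_, e.apply_symm_apply y⟩
    rw [map_mul, map_mul, e.apply_symm_apply, hy (e g)]

theorem closure_quot_map {A B : Type*} [Group A] [Group B] (e : A ≃* B) (S : Set A) (T : Set B)
    (h : e '' S = T) :
    ∃ f : ↥(Subgroup.closure S) ⧸ Subgroup.center ↥(Subgroup.closure S) ≃*
        ↥(Subgroup.closure T) ⧸ Subgroup.center ↥(Subgroup.closure T),
      f '' ((QuotientGroup.mk : ↥(Subgroup.closure S) → _) '' {y | (y : A) ∈ S}) =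
        (QuotientGroup.mk : ↥(Subgroup.closure T) → _) '' {y | (y : B) ∈ T} := by
  have hmap : (Subgroup.closure S).map e.toMonoidHom = Subgroup.closure T := by
    rw [MonoidHom.map_closure]; exact congrArg _ h
  let g : ↥(Subgroup.closure S) ≃* ↥(Subgroup.closure T) :=
    ((Subgroup.closure S).equivMapOfInjective e.toMonoidHom e.injective).trans (MulEquiv.subgroupCongr hmap)
  refine ⟨QuotientGroup.congr _ _ g (center_map g), ?_⟩
  have hg : ∀ y, (g y : B) = e y := fun y => rfl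
  ext q
  constructor
  · rintro ⟨-, ⟨y, hy, rfl⟩, rfl⟩
    exact ⟨g y, show (g y : B) ∈ T by rw [hg, ← h]; exact ⟨_, hy, rfl⟩, rfl⟩
  · rintro ⟨y, hy, rfl⟩
    refine ⟨_, ⟨g.symm y, ?_, rfl⟩, ?_⟩
    · show (g.symm y : A) ∈ S
      have h1 : e (g.symm y : A) ∈ e '' S := by
        rw [h, ← hg, g.apply_symm_apply]; exact hy
      obtain ⟨s, hs, he⟩ := h1
      rwa [← e.injective he]
    · show QuotientGroup.mk (g (g.symm y)) = _
      rw [g.apply_symm_apply]

/-- The type M(23) is carried along isomorphisms. -/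
theorem typeM23_map {A B : Type*} [Group A] [Group B] (e : A ≃* B) {D : Set A}
    (h : IsOfTypeM23 A D) : IsOfTypeM23 B (e '' D) := by
  obtain ⟨hZ, d, hd, c, hc, hdc, h22, c₃, hc₃, Q, hQ1, hQ2, ⟨e₂⟩⟩ := h
  have hp : ∀ a : A, {y : B | y ∈ e '' D ∧ y ≠ e a ∧ Commute (e a) y} =
      e '' {y : A | y ∈ D ∧ y ≠ a ∧ Commute a y} := fun a => by
    ext y
    obtain ⟨y, rfl⟩ := e.surjective y
    simp only [Set.mem_setOf_eq, e.injective.mem_set_image, ne_eq, EmbeddingLike.apply_eq_iff_eq]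
    exact and_congr_right fun _ => and_congr_right fun _ =>
      ⟨fun hy => by simpa using hy.map e.symm, fun hy => hy.map e⟩
  obtain ⟨f₁, hf₁⟩ := closure_quot_map e {y : A | y ∈ D ∧ y ≠ d ∧ Commute d y}
    {y : B | y ∈ e '' D ∧ y ≠ e d ∧ Commute (e d) y} (hp d).symm
  obtain ⟨f₂, -⟩ := closure_quot_map e
    ({y : A | y ∈ D ∧ y ≠ d ∧ Commute d y} ∩ {y : A | y ∈ D ∧ y ≠ c ∧ Commute c y})
    ({y : B | y ∈ e '' D ∧ y ≠ e d ∧ Commute (e d) y} ∩
      {y : B | y ∈ e '' D ∧ y ≠ e c ∧ Commute (e c) y})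
    (by rw [hp d, hp c, Set.image_inter e.injective])
  refine ⟨?_, e d, ⟨d, hd, rfl⟩, e c, ⟨c, hc, rfl⟩, fun h' => hdc (by simpa using h'.map e.symm),
    ?_, c₃, hc₃, Q, hQ1, hQ2, ⟨f₂.symm.trans e₂⟩⟩
  · rw [← center_map e, hZ, Subgroup.map_bot]
  · rw [← hf₁]; exact H72.Conn.typeM22_map f₁ h22

/-- The type M(24) is carried along isomorphisms. -/
theorem typeM24_map {A B : Type*} [Group A] [Group B] (e : A ≃* B) {D : Set A}
    (h : IsOfTypeM24 A D) : IsOfTypeM24 B (e '' D) := by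
  obtain ⟨hZ, d, hd, c, hc, hdc, h23, N, hN, ⟨f₃⟩, ⟨f₄⟩⟩ := h
  have hp : ∀ a : A, {y : B | y ∈ e '' D ∧ y ≠ e a ∧ Commute (e a) y} =
      e '' {y : A | y ∈ D ∧ y ≠ a ∧ Commute a y} := fun a => by
    ext y
    obtain ⟨y, rfl⟩ := e.surjective y
    simp only [Set.mem_setOf_eq, e.injective.mem_set_image, ne_eq, EmbeddingLike.apply_eq_iff_eq]
    exact and_congr_right fun _ => and_congr_right fun _ =>
      ⟨fun hy => by simpa using hy.map e.symm, fun hy => hy.map e⟩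
  obtain ⟨f₁, hf₁⟩ := closure_quot_map e {y : A | y ∈ D ∧ y ≠ d ∧ Commute d y}
    {y : B | y ∈ e '' D ∧ y ≠ e d ∧ Commute (e d) y} (hp d).symm
  obtain ⟨f₂, -⟩ := closure_quot_map e
    ({y : A | y ∈ D ∧ y ≠ d ∧ Commute d y} ∩ {y : A | y ∈ D ∧ y ≠ c ∧ Commute c y})
    ({y : B | y ∈ e '' D ∧ y ≠ e d ∧ Commute (e d) y} ∩
      {y : B | y ∈ e '' D ∧ y ≠ e c ∧ Commute (e c) y})
    (by rw [hp d, hp c, Set.image_inter e.injective])
  haveI := hN
  refine ⟨?_, e d, ⟨d, hd, rfl⟩, e c, ⟨c, hc, rfl⟩, fun h' => hdc (by simpa using h'.map e.symm),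
    ?_, N.map f₂.toMonoidHom, Subgroup.Normal.map hN f₂.toMonoidHom f₂.surjective,
    ⟨((N.equivMapOfInjective f₂.toMonoidHom f₂.injective).symm).trans f₃⟩, ?_⟩
  · rw [← center_map e, hZ, Subgroup.map_bot]
  · rw [← hf₁]; exact typeM23_map f₁ h23
  · haveI := Subgroup.Normal.map hN f₂.toMonoidHom f₂.surjective
    exact ⟨(QuotientGroup.congr N (N.map f₂.toMonoidHom) f₂ rfl).symm.trans f₄⟩

end H98.Fischer
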