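/-
A class whose members have a group of type M(23) one step down: the standing hypotheses and the
parameters of type M(24).
-/
import Cfsg.Agent.H65.Fischer.Orders

set_option autoImplicit false

namespace H98.Fischer

open Cfsg H99 H65.Fischer
open H5.TT.Fac (Down qD im Desc NC)

variable {G : Type*} [Group G] {D : Set G}

/-- One member has a group of type M(23) one step down. -/
structure Down24 (D : Set G) : Prop where
  grp : IsThreeTranspositionGroup D
  prim : IsPrimitiveUnderConj D
  triv : Subgroup.center G = ⊥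
  down : ∃ d ∈ D, Desc D d ∧ IsPrimitiveUnderConj (qD D d) ∧ IsOfTypeM23 (Down D d) (qD D d)

theorem Down24.mk' [Finite G] (hD : IsThreeTranspositionGroup D) (hp : IsPrimitiveUnderConj D)
    (hZ : Subgroup.center G = ⊥) {d : G} (hd : d ∈ D) (hpX : IsPrimitiveUnderConj (qD D d))
    (hX : IsOfTypeM23 (Down D d) (qD D d)) : Down24 D := by
  have hnc : NC D d := by
    obtain ⟨-, d', hd', c', hc', hdc', -⟩ := hX
    exact H5.TT.Fac.nc_of_pair hd' hc' hdc'
  exact ⟨hD, hp, hZ, d, hd, (H5.TT.Fac.top_desc hD hp hd hnc).2.2, hpX, hX⟩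

namespace Down24

variable [Finite G] (h : Down24 D)
include h

theorem cls : IsThreeTranspositionClass D := class_of_primitive h.grp h.prim

theorem down_good {s : G} (hs : s ∈ D) : Desc D s ∧ Good (qD D s) 31671 3510 693 351 := by
  obtain ⟨d, hd, hdesc, hpX, hX⟩ := h.down
  exact ⟨desc_of_prim h.cls h.prim hd hdesc.nc hs, down_good_all h.cls hd
    (m23_good (class_toGroup (H5.TT.Fac.qD_class hdesc)) hpX hX) hs⟩

theorem setting : Setting D 31671 3510 693 351 :=
  ⟨h.cls, h.prim, h.triv, fun _ hs => loc_of_down (h.down_good hs).1 (h.down_good hs).2,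
    by norm_num⟩

theorem good : Good D 306936 31671 3510 3240 := good_24 h.setting

theorem card : Nat.card G = 2 ^ 22 * 3 ^ 16 * 5 ^ 2 * 7 ^ 3 * 11 * 13 * 17 * 23 * 29 := by
  obtain ⟨d, hd, hdesc, hpX, hX⟩ := h.down
  rw [card_group h.setting h.good num_24 hd,
    card_m23 (class_toGroup (H5.TT.Fac.qD_class hdesc)) hpX hX]
  norm_num

end Down24

end H98.Fischer
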