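/-
The parity homomorphism of a class with a group of type M(23) one step down
(the proof of `H49.Parity.exists_parity_m24`, without assuming type M(24)).
-/
import Cfsg.Agent.H98.Fischer.Down
import Cfsg.Agent.H49.Parity.Main

set_option autoImplicit false
set_option linter.unusedSectionVars false

namespace H98.Fischer

open Cfsg H99 H49.Parity
open H5.TT.Fac (Down qD im Desc)

variable {G : Type*} [Group G] {D : Set G}

/-- A class with type M(23) one step down has such a chain. -/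
theorem exists_std24 [Finite G] (h : Down24 D) : ∃ a b c p q, Std D a b c p q := by
  have hs := h.setting
  have hg := h.good
  have hp := h.prim
  obtain ⟨a, ha, hd0, hp1, hX⟩ := h.down
  set E1 := qD D a with hE1
  have hcl1 := H5.TT.Fac.qD_class hd0
  have hD1 := class_toGroup hcl1
  have hs1 := H65.Fischer.m23_setting hD1 hp1 hX
  have hg1 := H65.Fischer.m23_good hD1 hp1 hX
  obtain ⟨b1, hb1, hd1, hp2, hY⟩ := H65.Fischer.m23_down hD1 hp1 hX
  obtain ⟨b, hbP, rfl⟩ := H5.TT.Fac.exists_of_mem hb1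
  set E2 := qD E1 (im hbP) with hE2
  have hcl2 := H5.TT.Fac.qD_class hd1
  have hD2 := class_toGroup hcl2
  have hs2 := H65.Fischer.m22_setting hD2 hp2 hY
  have hg2 := H65.Fischer.m22_good hD2 hp2 hY
  obtain ⟨F, hFi, hFf, hF, hall⟩ := H65.Fischer.m22_down hD2 hp2 hY
  obtain ⟨c2, hc2, -⟩ := hcl2.2.1
  obtain ⟨hd2, hg3, ⟨e⟩⟩ := hall c2 hc2
  have he := H65.Fischer.image_qD hF hD2.1 hD2.2.1 hd2 e
  have hcl3 := H5.TT.Fac.qD_class hd2
  obtain ⟨p3, hp3, -⟩ := hcl3.2.1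
  obtain ⟨q3, hq3⟩ := Set.nonempty_of_ncard_ne_zero
    (s := perp (qD E2 c2) p3) (by rw [hg3.srg.deg p3 hp3]; norm_num)
  -- the top level
  have hep : e p3 ∈ H65.Fischer.tClass F := he ▸ ⟨p3, hp3, rfl⟩
  have heq : e q3 ∈ H65.Fischer.tClass F := he ▸ ⟨q3, hq3.1, rfl⟩
  have G3 : Geo _ {p3, q3} ∅ p3 q3 := hasLine_map e he
    (line_geom hF hep heq (fun hh => hq3.2.1 (e.injective hh).symm) (hq3.2.2.map e.toMonoidHom))
  have T30 := tr_empty hcl3
  have T31 : Tr (qD E2 c2) {p3} := by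
    have := tr_map e he (tr_singleton (H65.Fischer.tClass_class hF) (H65.Fischer.tClass_srg_prim hF).1
      (by
        refine ⟨e p3, hep, e q3, heq, fun hh => hq3.2.1 (e.injective hh).symm,
          hq3.2.2.map e.toMonoidHom⟩) hep)
    rwa [← Set.image_singleton, Set.preimage_image_eq _ e.injective] at this
  -- the third level
  obtain ⟨p2, hp2m, rfl⟩ := H5.TT.Fac.exists_of_mem hp3
  obtain ⟨q2, hq2m, rfl⟩ := H5.TT.Fac.exists_of_mem hq3.1
  have hs2' : ∀ {x}, x ∈ perp E2 c2 → ({x} : Set _) ⊆ perp E2 c2 :=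
    fun hx => Set.singleton_subset_iff.2 hx
  have T21 : Tr E2 {c2} := tr_singleton hcl2 hp2 hs2.wide hc2
  have T22 : Tr E2 {c2, p2} := tr_lift hd2 (hs2' hp2m) (by
    rw [Set.image_singleton, dn_eq hp2m]; exact T31)
  have N21 : (cp E2 {c2}).ncard = 693 := by rw [cp_singleton, hg2.srg.deg c2 hc2]
  have N22 : (cp E2 {c2, p2}).ncard = 180 := by
    rw [ncard_cp_dn hd2 (hs2' hp2m), Set.image_singleton, dn_eq hp2m, cp_singleton,
      hg3.srg.deg _ (H5.TT.Fac.im_mem hp2m)]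
  have Q2q : q2 ∈ cp E2 {c2, p2} := by
    obtain ⟨y, hy, he'⟩ := exists_cp_dn hd2 (hs2' hp2m) (z := im hq2m) (by
      rw [Set.image_singleton, dn_eq hp2m, cp_singleton]; exact hq3)
    have hy'' := hy
    rw [cp_insert] at hy''
    rw [dn_eq hy''.1] at he'
    exact H5.TT.Fac.im_inj hd2 hy''.1 hq2m he' ▸ hy
  have G2 : Geo E2 {c2, p2, q2} {c2} p2 q2 := by
    have := geo_lift hd2 (M5 := {p2, q2}) (M3 := ∅) (Set.pair_subset hp2m hq2m)
      (Set.empty_subset _) hp2m hq2m (by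
        rw [Set.image_pair, Set.image_empty, dn_eq hp2m, dn_eq hq2m]; exact G3)
    rwa [LawfulSingleton.insert_empty_eq (β := Set (Down (qD D a) (im hbP)))] at this
  -- the second level
  obtain ⟨c1, hc1, rfl⟩ := H5.TT.Fac.exists_of_mem hc2
  obtain ⟨p1, hp1m, rfl⟩ := H5.TT.Fac.exists_of_mem hp2m.1
  obtain ⟨q1, hq1m, rfl⟩ := H5.TT.Fac.exists_of_mem hq2m.1
  have T11 : Tr E1 {im hbP} := tr_singleton hcl1 hp1 hs1.wide hb1
  have T12 : Tr E1 {im hbP, c1} := tr_lift hd1 (Set.singleton_subset_iff.2 hc1) (by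
    rw [Set.image_singleton, dn_eq hc1]; exact T21)
  have T13 : Tr E1 {im hbP, c1, p1} := tr_lift hd1 (Set.pair_subset hc1 hp1m) (by
    rw [Set.image_pair, dn_eq hc1, dn_eq hp1m]; exact T22)
  have N11 : (cp E1 {im hbP}).ncard = 3510 := by rw [cp_singleton, hg1.srg.deg _ hb1]
  have N12 : (cp E1 {im hbP, c1}).ncard = 693 := by
    rw [ncard_cp_dn hd1 (Set.singleton_subset_iff.2 hc1), Set.image_singleton, dn_eq hc1, N21]
  have N13 : (cp E1 {im hbP, c1, p1}).ncard = 180 := by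
    rw [ncard_cp_dn hd1 (Set.pair_subset hc1 hp1m), Set.image_pair, dn_eq hc1, dn_eq hp1m, N22]
  have G1 : Geo E1 {im hbP, c1, p1, q1} {im hbP, c1} p1 q1 :=
    geo_lift hd1 (M5 := {c1, p1, q1}) (M3 := {c1})
      (Set.insert_subset hc1 (Set.pair_subset hp1m hq1m)) (Set.singleton_subset_iff.2 hc1) hp1m hq1m
      (by
        rw [Set.image_insert_eq, Set.image_pair, Set.image_singleton, dn_eq hc1, dn_eq hp1m,
          dn_eq hq1m]
        exact G2)
  have hmem1 : ∀ {M : Set (Down D a)} {y : Down D a}, M ⊆ perp E1 (im hbP) →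
      y ∈ perp E1 (im hbP) → dn E1 (im hbP) y ∈ cp E2 (dn E1 (im hbP) '' M) →
      y ∈ cp E1 (insert (im hbP) M) := by
    intro M y hM hy hy1
    obtain ⟨y', hy', he'⟩ := exists_cp_dn hd1 hM hy1
    have hy'' := hy'
    rw [cp_insert] at hy''
    rw [dn_eq hy''.1, dn_eq hy] at he'
    exact H5.TT.Fac.im_inj hd1 hy''.1 hy he' ▸ hy'
  have Q1p : p1 ∈ cp E1 {im hbP, c1} := hmem1 (Set.singleton_subset_iff.2 hc1) hp1m (by
    rw [Set.image_singleton, dn_eq hc1, dn_eq hp1m, cp_singleton]; exact hp2m)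
  have Q1q : q1 ∈ cp E1 {im hbP, c1, p1} := hmem1 (Set.pair_subset hc1 hp1m) hq1m (by
    rw [Set.image_pair, dn_eq hc1, dn_eq hp1m, dn_eq hq1m]; exact Q2q)
  -- the elements
  obtain ⟨c, hc, rfl⟩ := H5.TT.Fac.exists_of_mem hc1.1
  obtain ⟨p, hpm, rfl⟩ := H5.TT.Fac.exists_of_mem hp1m.1
  obtain ⟨q, hqm, rfl⟩ := H5.TT.Fac.exists_of_mem hq1m.1
  have hmem : ∀ {M : Set G} {y : G}, M ⊆ perp D a → y ∈ perp D a →
      dn D a y ∈ cp E1 (dn D a '' M) → y ∈ cp D (insert a M) := by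
    intro M y hM hy hy1
    obtain ⟨y', hy', he'⟩ := exists_cp_dn hd0 hM hy1
    have hy'' := hy'
    rw [cp_insert] at hy''
    rw [dn_eq hy''.1, dn_eq hy] at he'
    exact H5.TT.Fac.im_inj hd0 hy''.1 hy he' ▸ hy'
  refine ⟨a, b, c, p, q, ha, ?_, ?_, ?_, ?_, tr_empty hs.cls, tr_singleton hs.cls hp hs.wide ha,
    ?_, ?_, ?_, hg.srg.card, ?_, ?_, ?_, ?_, ?_, ?_, ?_⟩
  · rwa [cp_singleton]
  · refine hmem (Set.singleton_subset_iff.2 hbP) hc ?_
    rw [Set.image_singleton, dn_eq hbP, dn_eq hc, cp_singleton]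
    exact hc1
  · refine hmem (Set.pair_subset hbP hc) hpm ?_
    rw [Set.image_pair, dn_eq hbP, dn_eq hc, dn_eq hpm]
    exact Q1p
  · refine hmem (Set.insert_subset hbP (Set.pair_subset hc hpm)) hqm ?_
    rw [Set.image_insert_eq, Set.image_pair, dn_eq hbP, dn_eq hc, dn_eq hpm, dn_eq hqm]
    exact Q1q
  · exact tr_lift hd0 (Set.singleton_subset_iff.2 hbP) (by
      rw [Set.image_singleton, dn_eq hbP]; exact T11)
  · exact tr_lift hd0 (Set.pair_subset hbP hc) (by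
      rw [Set.image_pair, dn_eq hbP, dn_eq hc]; exact T12)
  · exact tr_lift hd0 (Set.insert_subset hbP (Set.pair_subset hc hpm)) (by
      rw [Set.image_insert_eq, Set.image_pair, dn_eq hbP, dn_eq hc, dn_eq hpm]; exact T13)
  · rw [cp_singleton, hg.srg.deg a ha]
  · rw [ncard_cp_dn hd0 (Set.singleton_subset_iff.2 hbP), Set.image_singleton, dn_eq hbP, N11]
  · rw [ncard_cp_dn hd0 (Set.pair_subset hbP hc), Set.image_pair, dn_eq hbP, dn_eq hc, N12]
  · rw [ncard_cp_dn hd0 (Set.insert_subset hbP (Set.pair_subset hc hpm)), Set.image_insert_eq,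
      Set.image_pair, dn_eq hbP, dn_eq hc, dn_eq hpm, N13]
  · refine geo_lift hd0 (M5 := {b, c, p, q}) (M3 := {b, c})
      (Set.insert_subset hbP (Set.insert_subset hc (Set.pair_subset hpm hqm)))
      (Set.pair_subset hbP hc) hpm hqm ?_
    rw [Set.image_insert_eq, Set.image_insert_eq, Set.image_pair, Set.image_pair, dn_eq hbP,
      dn_eq hc, dn_eq hpm, dn_eq hqm]
    exact G1
  · intro z u v hza hu hv huv hzu hzv h1 h2 w hw
    rw [cp_singleton] at hu hv hw
    exact kill_step hd0 hg ha hs1 hg1.srg H65.Fischer.num_23 hza hu hv huv hzu hzv h1 h2 w hw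
  · intro z u v hza hzb hu hv huv hzu hzv h1 h2 w hw
    rw [cp_pair] at hu hv
    have hzm : z ∈ Subgroup.closure (perp D a) :=
      hg.cent a ha ▸ Subgroup.mem_centralizer_singleton_iff.2 hza.eq
    have him : ∀ {w}, Commute z w → ∀ hw : w ∈ perp D a,
        Commute (QuotientGroup.mk ⟨z, hzm⟩ : Down D a) (im hw) := fun {w} hzw hw => by
      show _ * _ = _ * _
      rw [im, ← QuotientGroup.mk_mul, ← QuotientGroup.mk_mul]
      exact congrArg QuotientGroup.mk (Subtype.ext hzw.eq)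
    have hcp : ∀ {x}, x ∈ perp D a ∩ perp D b → ∀ hx : x ∈ perp D a, im hx ∈ perp E1 (im hbP) :=
      fun {x} hx hx' => by
        have := mem_cp_dn hd0 (M := {b}) (Set.singleton_subset_iff.2 hbP) (y := x)
          (by rw [cp_pair]; exact hx)
        rwa [Set.image_singleton, dn_eq hbP, dn_eq hx', cp_singleton] at this
    have hdown : ∀ {x} (hx : x ∈ perp D a), x ∈ perp D a ∩ perp D b →
        (∀ w ∈ cp D {a, b, x}, Commute z w) →
        ∀ w ∈ cp E1 {im hbP, im hx}, Commute (QuotientGroup.mk ⟨z, hzm⟩ : Down D a) w := by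
      intro x hx hxb hall' w hw
      have hw' : w ∈ cp E1 (dn D a '' {b, x}) := by
        rwa [Set.image_pair, dn_eq hbP, dn_eq hx]
      obtain ⟨y, hy, rfl⟩ := exists_cp_dn hd0 (Set.pair_subset hbP hx) hw'
      have hzy := hall' y hy
      rw [cp_insert] at hy
      rw [dn_eq hy.1]
      exact him hzy hy.1
    rw [cp_pair] at hw
    refine commute_lift hd0 hzm hw.1 ?_
    exact kill_step hd1 hg1 hb1 hs2 hg2.srg H65.Fischer.num_22 (him hzb hbP) (hcp hu hu.1)
      (hcp hv hv.1) (fun e' => huv (H5.TT.Fac.im_inj hd0 hu.1 hv.1 e')) (him hzu hu.1)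
      (him hzv hv.1) (hdown hu.1 hu h1) (hdown hv.1 hv h2) _ (hcp hw hw.1)

/-- The parity homomorphism. -/
theorem exists_parity [Finite G] (h : Down24 D) : ∃ φ : G →* ℤˣ, ∀ d ∈ D, φ d = -1 := by
  obtain ⟨a, b, c, p, q, hstd⟩ := exists_std24 h
  refine H49.Parity.Ctx.exists_parity ⟨h.grp.1, h.grp.2.1, fun d g hd hgd hg => ?_, a, b, c, p, q,
    hstd, h.card⟩
  obtain ⟨i, hi⟩ := H65.Fischer.kernel h.setting h.good.srg H65.Fischer.num_24 hd hgd hg
  rw [← hi]
  have h2 : d ^ (2 : ℤ) = 1 := by rw [zpow_two, tt_mul_self h.grp.1 hd]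
  rcases Int.even_or_odd' i with ⟨j, rfl | rfl⟩
  · exact Or.inl (by simp [zpow_mul, h2])
  · exact Or.inr (by simp [zpow_add, zpow_mul, h2])

end H98.Fischer
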