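/-
The common partners of two non-commuting partners of a member form a strongly regular graph with
parameters (351, 126, 45, 45).
-/
import Cfsg.Agent.H98.Fischer.Row
import Cfsg.Agent.H65.Fischer.Levels

set_option autoImplicit false

namespace H98.Fischer

open Cfsg H99 H65.Fischer

variable {G : Type*} [Group G] [Finite G] {D : Set G}

/-- The parameters at the partners of cliques of size at most three. -/
structure Levels (D : Set G) : Prop where
  set : Setting D 31671 3510 693 351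
  srg2 : ∀ a ∈ D, ∀ b ∈ perp D a, IsSRG (perp D a ∩ perp D b) 3510 693 180 126
  srg3 : ∀ a ∈ D, ∀ b ∈ perp D a, ∀ c ∈ perp D a ∩ perp D b,
    IsSRG (perp D a ∩ perp D b ∩ perp D c) 693 180 51 45

namespace Levels

variable (L : Levels D) {r x y : G}
include L

lemma deg_sphere (hr : r ∈ D) (hx : x ∈ perp D r) (hy : y ∈ perp D r) (hxy : ¬ Commute x y)
    {s : G} (hs : s ∈ perp D r ∩ perp D x ∩ perp D y) :
    (perp D r ∩ perp D x ∩ perp D y ∩ perp D s).ncard = 126 := by
  rw [← (L.srg2 r hr s hs.1.1).nonadj x ⟨hx, perp_mem_symm hx.1 hs.1.2⟩ y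
    ⟨hy, perp_mem_symm hy.1 hs.2⟩ hxy]
  congr 1
  ext z
  simp only [perp, Set.mem_inter_iff, Set.mem_ofPred_eq]
  tauto

lemma adj_sphere (hr : r ∈ D) (hx : x ∈ perp D r) (hy : y ∈ perp D r) (hxy : ¬ Commute x y)
    {s t : G} (hs : s ∈ perp D r ∩ perp D x ∩ perp D y) (ht : t ∈ perp D r ∩ perp D x ∩ perp D y)
    (hts : t ∈ perp D s) :
    (perp D r ∩ perp D x ∩ perp D y ∩ perp D s ∩ perp D t).ncard = 45 := by
  rw [← (L.srg3 r hr s hs.1.1 t ⟨ht.1.1, hts⟩).nonadj
    x ⟨⟨hx, perp_mem_symm hx.1 hs.1.2⟩, perp_mem_symm hx.1 ht.1.2⟩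
    y ⟨⟨hy, perp_mem_symm hy.1 hs.2⟩, perp_mem_symm hy.1 ht.2⟩ hxy]
  congr 1
  ext z
  simp only [perp, Set.mem_inter_iff, Set.mem_ofPred_eq]
  tauto

lemma nonadj_sphere (hr : r ∈ D) (hx : x ∈ perp D r) (hy : y ∈ perp D r) (hxy : ¬ Commute x y)
    {s t : G} (hs : s ∈ perp D r ∩ perp D x ∩ perp D y) (ht : t ∈ perp D r ∩ perp D x ∩ perp D y)
    (hst : ¬ Commute s t) :
    (perp D r ∩ perp D x ∩ perp D y ∩ perp D s ∩ perp D t).ncard = 45 := by
  classical
  have hT := L.set.tt
  obtain ⟨hzD, hxz, hyz⟩ := tt_third hT L.set.conj hx.1 hy.1 hxy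
  set z₀ := x * y * x with hz₀
  have hcz : ∀ {v : G}, Commute x v → Commute y v → Commute z₀ v := fun h1 h2 =>
    (h1.mul_left h2).mul_left h1
  have hzr : z₀ ∈ perp D r := by
    refine ⟨hzD, fun h => ?_, (hcz hx.2.2.symm hy.2.2.symm).symm⟩
    exact hxz (by rw [h]; exact hx.2.2.symm)
  set T := perp D r ∩ perp D x ∩ perp D y with hTdef
  -- the three sets of the equality
  set A := T ∩ perp D s with hA
  set B : Set G := {x, y, z₀} with hB
  set E := perp D r with hE
  have hsE : s ∈ E := hs.1.1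
  have hEp : ∀ (S : Set G), S ⊆ E → ∀ v, S ∩ perp E v = S ∩ perp D v := fun S hS v => by
    ext w
    exact ⟨fun h => ⟨h.1, h.2.1.1, h.2.2⟩, fun h => ⟨h.1, hS h.1, h.2.2⟩⟩
  have hBE : B ⊆ E := by rintro v (rfl | rfl | rfl) <;> assumption
  have hAE : A ⊆ E := fun v hv => hv.1.1.1
  have hPE : ({s} : Set G) ⊆ E := Set.singleton_subset_iff.2 hsE
  have hne1 : x ≠ y := fun h => hxy (h ▸ Commute.refl x)
  have hne2 : x ≠ z₀ := fun h => hxz (h ▸ Commute.refl x)
  have hne3 : y ≠ z₀ := fun h => hyz (h ▸ Commute.refl y)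
  -- members of the sphere commute with the whole line and lie off it
  have hTB : ∀ v ∈ T, ∀ b ∈ B, Commute v b ∧ v ≠ b := by
    rintro v ⟨⟨-, hvx⟩, hvy⟩ b (rfl | rfl | rfl)
    · exact ⟨hvx.2.2.symm, hvx.2.1⟩
    · exact ⟨hvy.2.2.symm, hvy.2.1⟩
    · refine ⟨(hcz hvx.2.2 hvy.2.2).symm, ?_⟩
      rintro rfl
      exact hxz hvx.2.2
  have hBnc : ∀ b ∈ B, ∀ c ∈ B, c ≠ b → ¬ Commute b c := by
    rintro b (rfl | rfl | rfl) c (rfl | rfl | rfl) hcb
    all_goals
      first
        | exact absurd rfl hcb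
        | exact hxy
        | exact hxz
        | exact hyz
        | exact fun h => hxy h.symm
        | exact fun h => hxz h.symm
        | exact fun h => hyz h.symm
  have hBc : B.ncard = 3 := by
    rw [hB, Set.ncard_insert_of_notMem (by simp [hne1, hne2]) (Set.toFinite _), Set.ncard_pair hne3]
  have hAc : A.ncard = 126 := L.deg_sphere hr hx hy hxy hs
  have hBsub : ∀ v ∈ T, B ∩ perp D v = B := fun v hv => Set.inter_eq_left.2 fun b hb =>
    ⟨(hBE hb).1, fun h => (hTB v hv b hb).2 h.symm, (hTB v hv b hb).1⟩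
  let S : Fin 3 → Set G := ![A, B, {s}]
  let e : Fin 3 → Fin 3 → ℕ := ![![45, 3, 1], ![126, 0, 1], ![126, 3, 0]]
  have hsub : ∀ i, S i ⊆ E := by
    intro i; fin_cases i
    exacts [hAE, hBE, hPE]
  have hdisj : ∀ i j, i ≠ j → Disjoint (S i) (S j) := by
    have d1 : Disjoint A B := Set.disjoint_left.2 fun v hv hb => (hTB v hv.1 v hb).2 rfl
    have d2 : Disjoint A {s} := Set.disjoint_singleton_right.2 fun h => h.2.2.1 rfl
    have d3 : Disjoint B {s} := Set.disjoint_singleton_right.2 fun h => (hTB s hs s h).2 rfl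
    intro i j hij
    fin_cases i <;> fin_cases j <;>
      first | exact absurd rfl hij | exact d1 | exact d2 | exact d3 | exact d1.symm | exact d2.symm | exact d3.symm
  have he : ∀ i j, ∀ v ∈ S i, (S j ∩ perp E v).ncard = e i j := by
    intro i j v hv
    rw [hEp _ (hsub j)]
    fin_cases i <;> fin_cases j
    · exact L.adj_sphere hr hx hy hxy hs hv.1 hv.2
    · show (B ∩ perp D v).ncard = 3
      rw [hBsub v hv.1, hBc]
    · show ({s} ∩ perp D v).ncard = 1
      rw [Set.inter_eq_left.2 (Set.singleton_subset_iff.2 (perp_mem_symm hs.1.1.1 hv.2)),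
        Set.ncard_singleton]
    · show (A ∩ perp D v).ncard = 126
      rw [← hAc]
      congr 1
      exact Set.inter_eq_left.2 fun a ha =>
        ⟨(hAE ha).1, (hTB a ha.1 v hv).2, (hTB a ha.1 v hv).1.symm⟩
    · show (B ∩ perp D v).ncard = 0
      rw [Set.ncard_eq_zero (Set.toFinite _)]
      exact Set.eq_empty_of_forall_notMem fun b hb => hBnc v hv b hb.1 hb.2.2.1 hb.2.2.2
    · show ({s} ∩ perp D v).ncard = 1
      have hsv : s ∈ perp D v := ⟨hsE.1, (hTB s hs v hv).2, (hTB s hs v hv).1.symm⟩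
      rw [Set.inter_eq_left.2 (Set.singleton_subset_iff.2 hsv), Set.ncard_singleton]
    · obtain rfl : v = s := hv
      show (A ∩ perp D v).ncard = 126
      rw [← hAc]
      congr 1
      exact Set.inter_eq_left.2 fun a ha => ha.2
    · obtain rfl : v = s := hv
      show (B ∩ perp D v).ncard = 3
      rw [hBsub v hs, hBc]
    · obtain rfl : v = s := hv
      show ({v} ∩ perp D v).ncard = 0
      rw [Set.ncard_eq_zero (Set.toFinite _)]
      exact Set.eq_empty_of_forall_notMem fun b hb => hb.2.2.1 hb.1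
  have hrow := row_eq (L.set.loc r hr).srg (by norm_num) (r := -9) (s := 351) (by norm_num)
    (by norm_num) S ![-1, 12, 9] e hsub hdisj he
    (by
      simp only [Fin.sum_univ_three]
      simp only [S, e, Matrix.cons_val_zero, Matrix.cons_val_one, Matrix.cons_val,
        hAc, hBc, Set.ncard_singleton]
      norm_num)
    ht.1.1 (by
      intro i
      fin_cases i
      · exact fun h => hst h.2.2.2
      · exact fun h => (hTB t ht t h).2 rfl
      · exact fun h => hst ((Set.mem_singleton_iff.1 h) ▸ Commute.refl s))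
  rw [Fin.sum_univ_three, Fin.sum_univ_three, hEp _ (hsub 0), hEp _ (hsub 1), hEp _ (hsub 2)] at hrow
  simp only [S, Matrix.cons_val_zero, Matrix.cons_val_one, Matrix.cons_val,
    hBsub t ht, hAc, hBc, Set.ncard_singleton] at hrow
  have hs0 : ({s} ∩ perp D t).ncard = 0 := by
    rw [Set.ncard_eq_zero (Set.toFinite _)]
    exact Set.eq_empty_of_forall_notMem fun b hb => hst (hb.1 ▸ hb.2.2.2.symm)
  rw [hs0] at hrow
  norm_num at hrow
  have : ((A ∩ perp D t).ncard : ℝ) = 45 := by linarith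
  exact_mod_cast this

/-- The common partners of a non-commuting pair of partners of `r`. -/
theorem srg_sphere (hr : r ∈ D) (hx : x ∈ perp D r) (hy : y ∈ perp D r) (hxy : ¬ Commute x y) :
    IsSRG (perp D r ∩ perp D x ∩ perp D y) 351 126 45 45 := by
  set T := perp D r ∩ perp D x ∩ perp D y with hT
  have hp : ∀ s, perp T s = T ∩ perp D s := fun s => by
    ext v
    exact ⟨fun h => ⟨h.1, h.1.1.1.1, h.2⟩, fun h => ⟨h.1, h.2.2⟩⟩
  have hpp : ∀ s t, perp T s ∩ perp T t = T ∩ perp D s ∩ perp D t := fun s t => by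
    rw [hp, hp]
    ext v
    simp only [Set.mem_inter_iff]
    tauto
  refine ⟨?_, fun s hs => by rw [hp]; exact L.deg_sphere hr hx hy hxy hs,
    fun s hs t ht hne hc => by
      rw [hpp]
      exact L.adj_sphere hr hx hy hxy hs ht ⟨ht.1.1.1, hne.symm, hc⟩,
    fun s hs t ht hc => by
      rw [hpp]
      exact L.nonadj_sphere hr hx hy hxy hs ht hc⟩
  rw [← (L.set.loc r hr).srg.nonadj x hx y hy hxy, perp_perp, perp_perp, hT]
  congr 1
  ext v
  simp only [Set.mem_inter_iff]
  tauto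

end Levels

end H98.Fischer
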