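/-
The parameters at small cliques, and the standing facts given the three parts, for a class with a
group of type M(23) one step down (after `H98.M24.facts_of_type`).
-/
import Cfsg.Agent.H98.Fischer.Down
import Cfsg.Agent.H98.Fischer.Parity
import Cfsg.Agent.H98.Fischer.Sphere
import Cfsg.Agent.H98.M24.Facts
import Cfsg.Agent.H98.M24.Iso

set_option autoImplicit false

namespace H98.Fischer

open Cfsg H99 H65.Fischer H98.M24
open H5.TT.Fac (Down qD im Desc)

universe u

variable {G : Type u} [Group G] [Finite G] {D : Set G}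

/-- A pair of a member and a partner, with what holds for the common partners. -/
theorem pair_data (h : Down24 D) :
    (∀ m, 1 ≤ m → m ≤ 4 → H99.Fi.Trans D m) ∧
    (∀ a ∈ D, ExtOne (perp D a)) ∧
    ∀ a ∈ D, ∀ a' ∈ perp D a, IsSRG (perp D a ∩ perp D a') 3510 693 180 126 ∧
      (∀ c ∈ perp D a ∩ perp D a',
        IsSRG (perp D a ∩ perp D a' ∩ perp D c) 693 180 51 45) ∧
      ExtOne (perp D a ∩ perp D a') ∧ ParityOn (perp D a ∩ perp D a') := by
  have hS := h.setting
  have hG := h.good
  have hce : CE D := CE.of_class hS.cls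
  obtain ⟨d, hd, hdesc, hpX, hX⟩ := h.down
  have hX' := class_toGroup (H5.TT.Fac.qD_class hdesc)
  obtain ⟨f, hf⟩ := H99.Fi.step_down hS hG num_24 hd hdesc
  have htrans : ∀ m, 1 ≤ m → m ≤ 4 → H99.Fi.Trans D m := fun m h1 h4 =>
    H99.Fi.trans24 hf (H99.Fi.facts_m23 hX' hpX hX) h1 h4
  have hS1 := m23_setting hX' hpX hX
  have hG1 := m23_good hX' hpX hX
  have hce1 : CE (qD D d) := CE.of_class hS1.cls
  have hdn := eqv_dn hdesc hce hd
  have hext1 : ExtOne (perp D d) :=
    ExtOne.transfer hdn (hce.perp hd) hce1 (extOne_of_good hS1 hG1.srg num_23)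
  obtain ⟨q, hq, hdesc2, hpY, hY⟩ := m23_down hX' hpX hX
  have hY' := class_toGroup (H5.TT.Fac.qD_class hdesc2)
  have hS2 := m22_setting hY' hpY hY
  have hG2 := m22_good hY' hpY hY
  obtain ⟨b, hb, rfl⟩ := hdn.surj hq
  have hce2 : CE (qD (qD D d) (H49.Parity.dn D d b)) := CE.of_class hS2.cls
  have hdn2 := (hdn.restrict (hce.perp hd) hce1 hb).trans (eqv_dn hdesc2 hce1 hq)
  rw [perp_perp] at hdn2
  have hcedb : CE (perp D d ∩ perp D b) := by rw [← perp_perp]; exact (hce.perp hd).perp hb
  have hext2 : ExtOne (perp D d ∩ perp D b) :=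
    ExtOne.transfer hdn2 hcedb hce2 (extOne_of_good hS2 hG2.srg num_22)
  have hpar : ParityOn (perp D d ∩ perp D b) := by
    refine ParityOn.transfer hdn2 hcedb hce2 ?_
    obtain ⟨e⟩ := iso22.{u} _ _ hY' hpY hY
    refine parityOn_of_aut hce2 hS2.cls.2.2 hS2.triv
      ⟨MulAut.congr e.symm H96.Fi22Out.beta, fun a => ?_⟩
    obtain ⟨x, hx⟩ := H96.Fi22Out.aut_cases (MulAut.congr e a)
    refine ⟨e.symm x, hx.imp (fun hx => ?_) (fun hx => ?_)⟩
    · apply MulEquiv.ext
      intro w
      have := congrArg e.symm (DFunLike.congr_fun hx (e w))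
      simpa [MulAut.congr] using this
    · apply MulEquiv.ext
      intro w
      have := congrArg e.symm (DFunLike.congr_fun hx (e w))
      simpa [MulAut.congr] using this
  have hcep : ∀ a ∈ D, ∀ a' ∈ perp D a, CE (perp D a ∩ perp D a') := fun a ha a' ha' => by
    rw [← perp_perp]; exact (hce.perp ha).perp ha'
  refine ⟨htrans, fun a ha => ?_, fun a ha a' ha' => ?_⟩
  · obtain ⟨g, hg⟩ := class_isConj hS.cls ha hd
    have hE : Eqv (perp D a) (perp D d) (cj g) :=
      Eqv.ofConj g (by rw [cj_perp hS.conj, show cj g a = d from hg])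
    exact ExtOne.transfer hE (hce.perp ha) (hce.perp hd) hext1
  obtain ⟨g, h1, h2⟩ := pairs_conj (htrans 2 (by norm_num) (by norm_num)) ha ha' hd hb
  have hg : Eqv (perp D a ∩ perp D a') (perp D d ∩ perp D b) (cj g) :=
    Eqv.ofConj g (by rw [cj_perp_inter hS.conj, h1, h2])
  have hcea := hcep a ha a' ha'
  have hcomp := hg.trans hdn2
  refine ⟨?_, fun c hc => ?_, ExtOne.transfer hg hcea hcedb hext2,
    ParityOn.transfer hg hcea hcedb hpar⟩
  · exact hcomp.srg hcea hce2 hG2.srg
  · have hc' := hcomp.mem hc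
    have hr := hcomp.restrict hcea hce2 hc
    have he : perp (perp D a ∩ perp D a') c = perp D a ∩ perp D a' ∩ perp D c := by
      ext y
      exact ⟨fun h => ⟨h.1, h.1.1.1, h.2⟩, fun h => ⟨h.1, h.2.2⟩⟩
    rw [← he]
    exact hr.srg (hcea.perp hc) (hce2.perp hc') (hS2.loc _ hc').srg

/-- The parameters at small cliques. -/
theorem levels (h : Down24 D) : Levels D :=
  ⟨h.setting, fun a ha b hb => ((pair_data h).2.2 a ha b hb).1,
    fun a ha b hb c hc => ((pair_data h).2.2 a ha b hb).2.1 c hc⟩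

/-- The standing facts, given the three parts. -/
theorem facts_of_parts (h : Down24 D)
    (hparts : ∀ x ∈ D, ∀ y ∈ D, ¬ Commute x y → HasParts (perp D x ∩ perp D y)) :
    H98.M24.Facts D := by
  obtain ⟨htrans, hext1, hpair⟩ := pair_data h
  exact ⟨h.setting, h.good, fun a ha b hb => (hpair a ha b hb).1, hext1,
    fun a ha b hb => (hpair a ha b hb).2.2.1, fun a ha b hb => (hpair a ha b hb).2.2.2,
    htrans, exists_parity h, hparts⟩

end H98.Fischer
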