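/-
The common partners of two non-commuting members fall into three classes, from the local parameters
alone.
-/
import Cfsg.Agent.H98.Fischer.Sphere
import Cfsg.Agent.H98.M24.Comps
import Cfsg.Agent.H72.Conn.Count

set_option autoImplicit false
set_option linter.unusedSectionVars false

namespace H98.Fischer

open Cfsg H99 H65.Fischer
open H98.M24 (Closed HasParts)

variable {G : Type*} [Group G] [Finite G] {D : Set G}

/-- Distance at most two inside `M`. -/
def Close (M : Set G) (d e : G) : Prop :=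
  e = d ∨ e ∈ perp M d ∨ ∃ x ∈ perp M d, e ∈ perp M x

lemma Close.mem {M : Set G} {d e : G} (hd : d ∈ M) (h : Close M d e) : e ∈ M := by
  rcases h with rfl | h | ⟨x, -, h⟩
  exacts [hd, h.1, h.1]

namespace Levels

variable (L : Levels D) {h c : G} (hh : h ∈ D) (hc : c ∈ D) (hhc : ¬ Commute h c)
include L hh hc hhc

lemma nbr_srg {y : G} (hy : y ∈ perp D h ∩ perp D c) :
    IsSRG (perp (perp D h ∩ perp D c) y) 351 126 45 45 := by
  have h1 := L.srg_sphere hy.1.1 (perp_mem_symm hh hy.1) (perp_mem_symm hc hy.2) hhc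
  have h2 : perp D y ∩ perp D h ∩ perp D c = perp (perp D h ∩ perp D c) y := by
    ext v
    exact ⟨fun hv => ⟨⟨hv.1.2, hv.2⟩, hv.1.1.2⟩, fun hv => ⟨⟨⟨hv.1.1.1, hv.2⟩, hv.1.1⟩, hv.1.2⟩⟩
  rwa [h2] at h1

/-- The step behind diameter two. -/
theorem close_step {d y e : G} (hd : d ∈ perp D h ∩ perp D c)
    (hdy' : Close (perp D h ∩ perp D c) d y) (he : e ∈ perp (perp D h ∩ perp D c) y) :
    Close (perp D h ∩ perp D c) d e := by
  classical
  set M := perp D h ∩ perp D c with hM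
  have hT := L.set.tt
  by_cases hde : Commute d e
  · by_cases h' : e = d
    · exact Or.inl h'
    · exact Or.inr (Or.inl ⟨he.1, h', hde⟩)
  have hy : y ∈ M := hdy'.mem hd
  by_cases hdy : Commute d y
  · by_cases h' : y = d
    · exact Or.inr (Or.inl (h' ▸ he))
    · exact Or.inr (Or.inr ⟨y, ⟨hy, h', hdy⟩, he⟩)
  obtain ⟨x, hx, hyx⟩ : ∃ x ∈ perp M d, y ∈ perp M x := by
    rcases hdy' with rfl | h' | h'
    · exact absurd (Commute.refl _) hdy
    · exact absurd h'.2.2 hdy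
    · exact h'
  by_cases hr : ∃ r ∈ perp M d ∩ perp M y, Commute r e
  · obtain ⟨r, hr, hre⟩ := hr
    by_cases h' : e = r
    · exact absurd (h' ▸ hr.1.2.2) hde
    · exact Or.inr (Or.inr ⟨r, hr.1, he.1, h', hre⟩)
  push Not at hr
  exfalso
  set E := perp M y with hE
  set S := perp M d ∩ E with hSdef
  have hsq : ∀ {v : G}, v ∈ M → v * v = 1 := fun hv => tt_mul_self hT hv.1.1
  have hinv : ∀ {v : G}, v ∈ M → v⁻¹ = v := fun hv => inv_eq_of_mul_eq_one_right (hsq hv)
  -- conjugation by a member of `M` preserves `M` and the partners of what it fixes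
  have hmove : ∀ {v w z : G}, v ∈ M → Commute v w → z ∈ perp M w → v * z * v ∈ perp M w := by
    intro v w z hv hvw hz
    have hfix : ∀ {u : G}, Commute v u → v * u * v⁻¹ = u := fun hvu => by
      rw [hvu.eq, mul_inv_cancel_right]
    have h1 := perp_conj L.set.conj v hz.1.1
    have h2 := perp_conj L.set.conj v hz.1.2
    rw [hfix hv.1.2.2.symm] at h1
    rw [hfix hv.2.2.2.symm] at h2
    rw [hinv hv] at h1 h2
    refine ⟨⟨h1, h2⟩, fun he => hz.2.1 ?_, ?_⟩
    · calc z = v * v * z * (v * v) := by rw [hsq hv, one_mul, mul_one]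
        _ = v * (v * z * v) * v := by group
        _ = v * w * v := by rw [he]
        _ = w := by rw [hvw.eq, mul_assoc, hsq hv, mul_one]
    · exact (hvw.symm.mul_right hz.2.2).mul_right hvw.symm
  set φ : G → G := fun r => e * r * e with hφ
  have hφ2 : ∀ r, φ (φ r) = r := fun r => by
    show e * (e * r * e) * e = r
    rw [show e * (e * r * e) * e = (e * e) * r * (e * e) by group, hsq he.1, one_mul, mul_one]
  have hφc : ∀ r, φ r = e * r * e⁻¹ := fun r => by rw [hinv he.1]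
  have hφE : ∀ r ∈ E, φ r ∈ E := fun r hr' => hmove he.1 he.2.2.symm hr'
  have hbraid : ∀ r ∈ S, φ r = r * e * r := fun r hr' =>
    tt_braid hT he.1.1.1 hr'.2.1.1.1 fun h' => hr r hr' h'.symm
  have hclosed : ∀ r ∈ S, ∀ r' ∈ S, r * r' * r ∈ S := fun r hr' r' hr'' =>
    ⟨hmove hr'.2.1 hr'.1.2.2.symm hr''.1, hmove hr'.2.1 hr'.2.2.2.symm hr''.2⟩
  have hcc : ∀ a b, Commute (φ a) (φ b) ↔ Commute a b := by
    have h' : ∀ a b, Commute a b → Commute (φ a) (φ b) := fun a b hab => by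
      rw [hφc, hφc]
      exact hab.map (MulAut.conj e).toMonoidHom
    exact fun a b => ⟨fun h'' => by simpa [hφ2] using h' _ _ h'', h' a b⟩
  have hSE : S ⊆ E := fun r hr' => hr'.2
  have hadj : ∀ r ∈ S, (S ∩ perp E r).ncard = 45 := fun r hr' => by
    have hdr : d ∈ perp M r := perp_mem_symm hd hr'.1
    have hyr : y ∈ perp M r := perp_mem_symm hy hr'.2
    rw [← (L.nbr_srg hh hc hhc hr'.2.1).nonadj d hdr y hyr hdy, perp_perp, perp_perp, hSdef, hE,
      perp_perp]
    congr 1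
    ext z
    simp only [Set.mem_inter_iff]
    tauto
  have hsrg : IsSRG E 351 126 45 45 := L.nbr_srg hh hc hhc hy
  let adj : G → G → Prop := fun a b => b ≠ a ∧ Commute a b
  let V : Finset G := E.toFinite.toFinset
  let S' : Finset G := S.toFinite.toFinset
  let U' : Finset G := S'.image φ
  have hV : ∀ v, v ∈ V ↔ v ∈ E := fun v => Set.Finite.mem_toFinset _
  have hS' : ∀ v, v ∈ S' ↔ v ∈ S := fun v => Set.Finite.mem_toFinset _
  have hnc : ∀ (p : G → Prop) [DecidablePred p] (T : Finset G) (T0 : Set G),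
      (∀ v, v ∈ T ↔ v ∈ T0) → (T.filter p).card = (T0 ∩ {v | p v}).ncard := by
    intro p _ T T0 hT'
    rw [← Set.ncard_coe_finset]
    congr 1
    ext v
    simp [hT']
  have hnoSU : ∀ r ∈ S, ∀ t ∈ S, ¬ Commute r (φ t) := by
    intro r hr' t ht hc'
    rw [hbraid t ht] at hc'
    have h1 := hc'.map (MulAut.conj t).toMonoidHom
    simp only [MulEquiv.coe_toMonoidHom, MulAut.conj_apply, hinv ht.2.1] at h1
    rw [show t * (t * e * t) * t = (t * t) * e * (t * t) by group, hsq ht.2.1, one_mul,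
      mul_one] at h1
    exact hr _ (hclosed t ht r hr') h1
  have := H72.Conn.no_opposite (k := 126) (l := 45) (m := 45) V S' U' adj
    (fun v hv => (hV v).2 (hSE ((hS' v).1 hv)))
    (fun v hv => by
      obtain ⟨r, hr', rfl⟩ := Finset.mem_image.1 hv
      exact (hV _).2 (hφE r (hSE ((hS' r).1 hr'))))
    ⟨x, (hS' x).2 ⟨hx, perp_mem_symm hx.1 hyx⟩⟩
    (Finset.disjoint_left.2 fun v hv hv' => by
      obtain ⟨r, hr', rfl⟩ := Finset.mem_image.1 hv'
      exact hnoSU _ ((hS' _).1 hv) r ((hS' r).1 hr') (Commute.refl _))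
    (Finset.card_image_of_injective _ fun a b hab => by simpa [hφ2] using congrArg φ hab)
    (fun a _ b _ h' => ⟨h'.1.symm, h'.2.symm⟩) (fun a _ h' => h'.1 rfl) ?_ ?_ ?_ ?_ ?_ ?_
  · omega
  · intro v hv
    rw [hnc _ V E hV, ← hsrg.deg v ((hV v).1 hv)]
    congr 1
  · intro a ha b hb hab
    rw [hnc _ V E hV, ← hsrg.adj a ((hV a).1 ha) b ((hV b).1 hb) hab.1.symm hab.2]
    congr 1
    ext v
    exact ⟨fun h' => ⟨⟨h'.1, h'.2.1⟩, h'.1, h'.2.2⟩, fun h' => ⟨h'.1.1, h'.1.2, h'.2.2⟩⟩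
  · intro a ha b hb hne hab
    rw [hnc _ V E hV, ← hsrg.nonadj a ((hV a).1 ha) b ((hV b).1 hb)
      fun hc' => hab ⟨hne.symm, hc'⟩]
    congr 1
    ext v
    exact ⟨fun h' => ⟨⟨h'.1, h'.2.1⟩, h'.1, h'.2.2⟩, fun h' => ⟨h'.1.1, h'.1.2, h'.2.2⟩⟩
  · intro r hr'
    rw [hnc _ S' S hS', ← hadj r ((hS' r).1 hr')]
    congr 1
    ext v
    exact ⟨fun h' => ⟨h'.1, hSE h'.1, h'.2⟩, fun h' => ⟨h'.1, h'.2.2⟩⟩
  · intro v hv
    obtain ⟨r, hr', rfl⟩ := Finset.mem_image.1 hv
    rw [Finset.filter_image, Finset.card_image_of_injective _ fun a b hab => by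
      simpa [hφ2] using congrArg φ hab, hnc _ S' S hS', ← hadj r ((hS' r).1 hr')]
    congr 1
    ext t
    refine ⟨fun h' => ⟨h'.1, hSE h'.1, fun e' => h'.2.1 (by rw [e']), (hcc _ _).1 h'.2.2⟩, fun h' =>
      ⟨h'.1, fun e' => h'.2.2.1 (by simpa [hφ2] using congrArg φ e'), (hcc _ _).2 h'.2.2.2⟩⟩
  · intro a ha b hb hab
    obtain ⟨t, ht, rfl⟩ := Finset.mem_image.1 hb
    exact hnoSU a ((hS' a).1 ha) t ((hS' t).1 ht) hab.2

lemma close_closed {d : G} (hd : d ∈ perp D h ∩ perp D c) :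
    Closed (perp D h ∩ perp D c) {e | Close (perp D h ∩ perp D c) d e} :=
  ⟨fun _ he => he.mem hd, fun z hz w hw hzw => by
    by_cases hwz : w = z
    · exact hwz ▸ hz
    · exact L.close_step hh hc hhc hd hz ⟨hw, hwz, hzw⟩⟩

/-- A class has at most `1080` members. -/
lemma close_ncard {d : G} (hd : d ∈ perp D h ∩ perp D c) :
    {e | Close (perp D h ∩ perp D c) d e}.ncard ≤ 1080 := by
  classical
  set M := perp D h ∩ perp D c with hM
  set N := perp M d with hN
  have hNsrg : IsSRG N 351 126 45 45 := L.nbr_srg hh hc hhc hd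
  set Z := {e | Close M d e ∧ e ≠ d ∧ e ∉ N} with hZ
  have hP : ∀ z ∈ Z, 108 ≤ (N ∩ perp M z).ncard := by
    rintro z ⟨hz, hzd, hzN⟩
    obtain ⟨x, hx, hzx⟩ : ∃ x ∈ perp M d, z ∈ perp M x := by
      rcases hz with h' | h' | h'
      exacts [absurd h' hzd, absurd h' hzN, h']
    have hzM : z ∈ M := hzx.1
    have hdz : ¬ Commute d z := fun h' => hzN ⟨hzM, hzd, h'⟩
    set P := N ∩ perp M z with hP
    have hPne : P.Nonempty := ⟨x, hx, perp_mem_symm hx.1 hzx⟩
    have hdeg : ∀ r ∈ P, (P ∩ perp N r).ncard = 45 := fun r hr => by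
      rw [← (L.nbr_srg hh hc hhc hr.2.1).nonadj d (perp_mem_symm hd hr.1) z
        (perp_mem_symm hzM hr.2) hdz, perp_perp, perp_perp, hP, hN, perp_perp]
      congr 1
      ext w
      simp only [Set.mem_inter_iff]
      tauto
    have hq := (hNsrg.quad (by norm_num) (r := 9) (s := -9) (by norm_num) (by norm_num) P ∅
      Set.inter_subset_left (Set.empty_subset _) (Set.disjoint_empty _) 1 0 45 0 0 0 hdeg
      (fun w _ => by simp) (fun w hw => absurd hw (Set.notMem_empty w))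
      (fun w hw => absurd hw (Set.notMem_empty w))).1
    simp only [Set.ncard_empty, Nat.cast_zero, mul_zero, add_zero] at hq
    have hpos : (1 : ℝ) ≤ (P.ncard : ℝ) := by
      exact_mod_cast (Set.ncard_pos (Set.toFinite P)).2 hPne
    have : (108 : ℝ) ≤ (P.ncard : ℝ) := by
      push_cast at hq
      nlinarith
    exact_mod_cast this
  have hbelow : ∀ r ∈ N, (Z ∩ perp M r).ncard ≤ 224 := by
    intro r hr
    have hrM : r ∈ M := hr.1
    have h126 : (N ∩ perp M r).ncard = 126 := by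
      rw [← hNsrg.deg r hr, hN, perp_perp]
    have hsub : Z ∩ perp M r ⊆ perp M r \ insert d (N ∩ perp M r) := by
      rintro w ⟨⟨-, hwd, hwN⟩, hw⟩
      exact ⟨hw, by rintro (h' | h'); exacts [hwd h', hwN h'.1]⟩
    have hins : insert d (N ∩ perp M r) ⊆ perp M r :=
      Set.insert_subset (perp_mem_symm hd hr) Set.inter_subset_right
    refine (Set.ncard_le_ncard hsub (Set.toFinite _)).trans ?_
    rw [Set.ncard_sdiff hins (Set.toFinite _),
      Set.ncard_insert_of_notMem (fun h' => h'.1.2.1 rfl) (Set.toFinite _), h126,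
      (L.nbr_srg hh hc hhc hrM).card]
  have hcount : Z.ncard * 108 ≤ N.ncard * 224 := by
    rw [Set.ncard_eq_toFinset_card Z (Set.toFinite Z), Set.ncard_eq_toFinset_card N (Set.toFinite N)]
    refine Finset.card_mul_le_card_mul (fun z r => r ∈ perp M z) (fun z hz => ?_) (fun r hr => ?_)
    · rw [Set.Finite.mem_toFinset] at hz
      refine (hP z hz).trans (le_of_eq ?_)
      rw [← Set.ncard_coe_finset]
      congr 1
      ext w
      simp [Finset.bipartiteAbove]
    · rw [Set.Finite.mem_toFinset] at hr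
      refine le_trans (le_of_eq ?_) (hbelow r hr)
      rw [← Set.ncard_coe_finset]
      congr 1
      ext w
      simp only [Finset.bipartiteBelow, Finset.coe_filter, Set.Finite.mem_toFinset,
        Set.mem_ofPred_eq, Set.mem_inter_iff]
      exact ⟨fun h' => ⟨h'.1, perp_mem_symm (h'.1.1.mem hd) h'.2⟩,
        fun h' => ⟨h'.1, perp_mem_symm hr.1 h'.2⟩⟩
  have hsub : {e | Close M d e} ⊆ insert d (N ∪ Z) := fun e he => by
    by_cases h1 : e = d
    · exact Or.inl h1
    by_cases h2 : e ∈ N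
    · exact Or.inr (Or.inl h2)
    exact Or.inr (Or.inr ⟨he, h1, h2⟩)
  have h1 := (Set.ncard_le_ncard hsub (Set.toFinite _)).trans (Set.ncard_insert_le _ _)
  have h2 := Set.ncard_union_le N Z
  rw [hNsrg.card] at h2 hcount
  omega

/-- The three classes. -/
theorem hasParts (hg : Good D 306936 31671 3510 3240) : HasParts (perp D h ∩ perp D c) := by
  classical
  set M := perp D h ∩ perp D c with hM
  have hcard : M.ncard = 3240 := hg.srg.nonadj h hh c hc hhc
  obtain ⟨x₁, hx₁⟩ := Set.nonempty_of_ncard_ne_zero (s := M) (by rw [hcard]; norm_num)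
  set C₁ := {e | Close M x₁ e} with hC₁
  have c1 : C₁.ncard ≤ 1080 := L.close_ncard hh hc hhc hx₁
  have k1 : Closed M C₁ := L.close_closed hh hc hhc hx₁
  obtain ⟨x₂, hx₂M, hx₂⟩ := Set.exists_mem_notMem_of_ncard_lt_ncard (s := C₁) (t := M)
    (by omega) (Set.toFinite _)
  set C₂ := {e | Close M x₂ e} with hC₂
  have c2 : C₂.ncard ≤ 1080 := L.close_ncard hh hc hhc hx₂M
  have k2 : Closed M C₂ := L.close_closed hh hc hhc hx₂M
  have hu := Set.ncard_union_le C₁ C₂
  obtain ⟨x₃, hx₃M, hx₃⟩ := Set.exists_mem_notMem_of_ncard_lt_ncard (s := C₁ ∪ C₂) (t := M)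
    (by omega) (Set.toFinite _)
  have k12 : Closed M (C₁ ∪ C₂) := ⟨Set.union_subset k1.sub k2.sub, fun a ha b hb hab =>
    ha.imp (fun ha => k1.cl a ha b hb hab) (fun ha => k2.cl a ha b hb hab)⟩
  have hd12 : Disjoint C₁ C₂ := by
    refine Set.disjoint_left.2 fun z hz1 hz2 => hx₂ ?_
    rcases hz2 with rfl | hz2 | ⟨v, hv, hz2⟩
    · exact hz1
    · exact k1.cl z hz1 x₂ hx₂M hz2.2.2.symm
    · exact k1.cl v (k1.cl z hz1 v hv.1 hz2.2.2.symm) x₂ hx₂M hv.2.2.symm
  refine ⟨![C₁, C₂, M \ (C₁ ∪ C₂)], fun i => ?_, fun i j hij => ?_⟩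
  · fin_cases i
    exacts [⟨⟨x₁, Or.inl rfl⟩, k1⟩, ⟨⟨x₂, Or.inl rfl⟩, k2⟩, ⟨⟨x₃, hx₃M, hx₃⟩, k12.compl⟩]
  · have d13 : Disjoint C₁ (M \ (C₁ ∪ C₂)) :=
      Set.disjoint_sdiff_right.mono_left Set.subset_union_left
    have d23 : Disjoint C₂ (M \ (C₁ ∪ C₂)) :=
      Set.disjoint_sdiff_right.mono_left Set.subset_union_right
    fin_cases i <;> fin_cases j <;>
      first | exact absurd rfl hij | exact hd12 | exact d13 | exact d23 | exact hd12.symm | exact d13.symm | exact d23.symm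

end Levels

end H98.Fischer
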